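import Mathlib

/-! A binomial coefficient has a prime divisor that is large compared with the lower index or with
the square root of the upper one; consequences for the largest prime divisor. -/

set_option autoImplicit false

namespace Cfsg.Agent.H52.Derange

open Finset

theorem two_mul_card_primes_le {s : ℕ} (h : s = 2 ∨ s = 4 ∨ s = 6 ∨ 8 ≤ s) :
    2 * ((Icc 2 s).filter Nat.Prime).card ≤ s := by
  rcases (show s = 2 ∨ s = 4 ∨ s = 6 ∨ s = 8 ∨ 9 ≤ s by omega) with rfl | rfl | rfl | rfl | h9
  · decide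
  · decide
  · decide
  · decide
  · have key : ((Icc 2 s).filter Nat.Prime).card ≤ (Icc 1 ((s - 1) / 2)).card := by
      refine Finset.card_le_card_of_injOn (fun p => if p = 2 then 4 else p / 2) ?_ ?_
      · intro p hp
        simp only [coe_filter, Set.mem_ofPred_eq, mem_Icc] at hp
        obtain ⟨⟨h2, hs⟩, hpp⟩ := hp
        simp only [coe_Icc, Set.mem_Icc]
        split_ifs with hp2
        · omega
        · rcases hpp.eq_two_or_odd with h' | h' <;> omega
      · intro p hp q hq hpq
        simp only [coe_filter, Set.mem_ofPred_eq, mem_Icc] at hp hq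
        have n9 : ∀ r : ℕ, r.Prime → r ≠ 9 := fun r hr e => by subst e; norm_num at hr
        have := n9 p hp.2
        have := n9 q hq.2
        have := hp.2.eq_two_or_odd
        have := hq.2.eq_two_or_odd
        simp only at hpq
        split_ifs at hpq <;> omega
    simp only [Nat.card_Icc] at key
    omega

theorem choose_mono_half {m s k : ℕ} (hsk : s ≤ k) (hk : 2 * k ≤ m) : m.choose s ≤ m.choose k := by
  induction k, hsk using Nat.le_induction with
  | base => exact le_rfl
  | succ j _ ih => exact (ih (by omega)).trans (Nat.choose_le_succ_of_lt_half_left (by omega))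

theorem pow_lt_pow_mul_choose {m s : ℕ} (hs : 2 ≤ s) (hsm : s < m) :
    m ^ s < s ^ s * m.choose s := by
  have key : ∀ j, 2 ≤ j → j ≤ s → m ^ j * s.descFactorial j < s ^ j * m.descFactorial j := by
    intro j hj
    induction j, hj using Nat.le_induction with
    | base =>
      intro _
      simp only [Nat.descFactorial_succ, Nat.descFactorial_zero, mul_one, Nat.sub_zero]
      have h1 : m * (s - 1) < s * (m - 1) := by
        have e1 := Nat.mul_sub_one m s
        have e2 := Nat.mul_sub_one s m
        have e3 : m * s = s * m := mul_comm m s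
        have : m ≤ m * s := Nat.le_mul_of_pos_right m (by omega)
        omega
      calc m ^ 2 * ((s - 1) * s) = m * s * (m * (s - 1)) := by ring
        _ < m * s * (s * (m - 1)) := Nat.mul_lt_mul_of_pos_left h1 (Nat.mul_pos (by omega) (by omega))
        _ = s ^ 2 * ((m - 1) * m) := by ring
    | succ j _ ih =>
      intro hjs
      have h1 : m * (s - j) ≤ s * (m - j) := by
        rw [Nat.mul_sub, Nat.mul_sub, mul_comm m s]
        exact Nat.sub_le_sub_left (Nat.mul_le_mul_right j (by omega)) _
      calc m ^ (j + 1) * s.descFactorial (j + 1)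
          = m * (s - j) * (m ^ j * s.descFactorial j) := by rw [Nat.descFactorial_succ]; ring
        _ < m * (s - j) * (s ^ j * m.descFactorial j) :=
          Nat.mul_lt_mul_of_pos_left (ih (by omega)) (Nat.mul_pos (by omega) (by omega))
        _ ≤ s * (m - j) * (s ^ j * m.descFactorial j) := Nat.mul_le_mul_right _ h1
        _ = s ^ (j + 1) * m.descFactorial (j + 1) := by rw [Nat.descFactorial_succ]; ring
  have h := key s hs le_rfl
  rw [Nat.descFactorial_self, Nat.descFactorial_eq_factorial_mul_choose m s] at h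
  have h2 : m ^ s * s.factorial < s ^ s * m.choose s * s.factorial := by
    calc m ^ s * s.factorial < s ^ s * (s.factorial * m.choose s) := h
      _ = _ := by ring
  exact Nat.lt_of_mul_lt_mul_right h2

/-- If the remainder drops then the prime divides the binomial coefficient. -/
theorem dvd_choose_of_mod_lt {m k p : ℕ} (hp : p.Prime) (h : m % p < k % p) : p ∣ m.choose k := by
  haveI := Fact.mk hp
  have h1 := (Choose.choose_modEq_choose_mod_mul_choose_div_nat (n := m) (k := k) (p := p))
  rw [Nat.choose_eq_zero_of_lt h, zero_mul] at h1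
  exact Nat.modEq_zero_iff_dvd.1 h1

/-- A prime divisor exceeding `k` or the square root of `m` makes the remainder drop. -/
theorem mod_lt_of_dvd_choose {m k r : ℕ} (hr : r.Prime) (hrd : r ∣ m.choose k)
    (hkm : k ≤ m) (h : k < r ∨ m < r * r) : m % r < k % r := by
  haveI := Fact.mk hr
  by_contra hle
  push Not at hle
  have hmr : m % r < r := Nat.mod_lt _ hr.pos
  have nd : ∀ a b : ℕ, a < r → b ≤ a → ¬ r ∣ a.choose b := fun a b ha hb hd => by
    have := (hr.dvd_factorial (n := a)).1
      ((Nat.choose_mul_factorial_mul_factorial hb) ▸ (hd.mul_right _).mul_right _)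
    omega
  have h1 := (Choose.choose_modEq_choose_mod_mul_choose_div_nat (n := m) (k := k) (p := r))
  have h2 : r ∣ (m % r).choose (k % r) * (m / r).choose (k / r) := (h1.dvd_iff dvd_rfl).1 hrd
  rcases hr.dvd_mul.1 h2 with h3 | h3
  · exact nd _ _ hmr hle h3
  · rcases h with h | h
    · rw [Nat.div_eq_of_lt h, Nat.choose_zero_right] at h3
      exact hr.not_dvd_one h3
    · exact nd _ _ ((Nat.div_lt_iff_lt_mul hr.pos).2 h) (Nat.div_le_div_right hkm) h3

theorem small_table : ∀ m : Fin 94, ∀ k : Fin 32, 2 * k.val ≤ m.val → (k.val = 3 ∨ k.val = 5 ∨ k.val = 7 ∨ (m.val < 64 ∧ m.val < k.val * k.val)) →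
    ∃ p ∈ ([2, 3, 5, 7, 11, 13, 17, 19, 23, 29, 31, 37, 41, 43, 47, 53, 59, 61, 67, 71, 73, 79, 83, 89] : List ℕ),
      (k.val < p ∨ m.val < p * p) ∧ m.val % p < k.val % p := by
  decide +kernel

/-- The key numerical fact. -/
theorem exists_prime_dvd_choose {m k : ℕ} (hk : 1 ≤ k) (hkm : 2 * k ≤ m) :
    ∃ p : ℕ, p.Prime ∧ p ∣ m.choose k ∧ (k < p ∨ m < p * p) := by
  by_contra hno
  push Not at hno
  rcases Nat.eq_or_lt_of_le hk with rfl | hk2
  · obtain ⟨p, hp, hpd⟩ := Nat.exists_prime_and_dvd (n := m.choose 1) (by rw [Nat.choose_one_right]; omega)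
    have := (hno p hp hpd).1
    have := hp.two_le
    omega
  set s := min k (Nat.sqrt m) with hsdef
  have hs2 : 2 ≤ s := le_min (by omega) (Nat.le_sqrt.2 (by omega))
  have hsk : s ≤ k := min_le_left _ _
  have hss : s * s ≤ m := Nat.le_sqrt.1 (min_le_right _ _)
  have hC : 0 < m.choose k := Nat.choose_pos (by omega)
  set c := ((Icc 2 s).filter Nat.Prime).card
  have hup : m.choose k ≤ m ^ c := by
    conv_lhs => rw [← Nat.prod_factorization_pow_eq_self hC.ne']
    rw [Finsupp.prod]
    refine (Finset.prod_le_prod' fun p _ => Nat.pow_factorization_choose_le (by omega)).trans ?_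
    rw [Finset.prod_const]
    refine Nat.pow_le_pow_right (by omega) (Finset.card_le_card fun p hp => ?_)
    rw [Nat.support_factorization] at hp
    have hpp := Nat.prime_of_mem_primeFactors hp
    have h := hno p hpp (Nat.dvd_of_mem_primeFactors hp)
    exact mem_filter.2 ⟨mem_Icc.2 ⟨hpp.two_le, le_min h.1 (Nat.le_sqrt.2 h.2)⟩, hpp⟩
  have hlow : m ^ s < s ^ s * m ^ c :=
    (pow_lt_pow_mul_choose hs2 (by omega)).trans_le
      (Nat.mul_le_mul_left _ ((choose_mono_half hsk hkm).trans hup))
  have hm94 : (s = 3 ∨ s = 5 ∨ s = 7) ∧ m < 94 := by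
    rcases (show s = 2 ∨ s = 4 ∨ s = 6 ∨ 8 ≤ s ∨ s = 3 ∨ s = 5 ∨ s = 7 by omega) with
      h | h | h | h | h | h | h
    iterate 4
      exfalso
      have hc := two_mul_card_primes_le (s := s) (by omega)
      have h2 : (m ^ s) ^ 2 < (s ^ s * m ^ c) ^ 2 := Nat.pow_lt_pow_left hlow (by norm_num)
      have h3 : (s ^ s * m ^ c) ^ 2 ≤ m ^ s * m ^ s := by
        rw [mul_pow, ← pow_mul, ← pow_mul, mul_comm s 2, pow_mul s 2 s, pow_two s]
        exact Nat.mul_le_mul (Nat.pow_le_pow_left hss s) (Nat.pow_le_pow_right (by omega) (by omega))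
      rw [pow_two (m ^ s)] at h2
      omega
    · refine ⟨Or.inl h, ?_⟩
      have hc : c = 2 := by simp only [c, h]; decide
      rw [hc, h] at hlow
      by_contra hm
      push Not at hm
      have : m ^ 3 = m * m ^ 2 := by ring
      have : 94 * m ^ 2 ≤ m * m ^ 2 := Nat.mul_le_mul_right _ hm
      omega
    · refine ⟨Or.inr (Or.inl h), ?_⟩
      have hc : c = 3 := by simp only [c, h]; decide
      rw [hc, h] at hlow
      by_contra hm
      push Not at hm
      have : m ^ 5 = m ^ 2 * m ^ 3 := by ring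
      have : 94 ^ 2 * m ^ 3 ≤ m ^ 2 * m ^ 3 := Nat.mul_le_mul_right _ (Nat.pow_le_pow_left hm 2)
      omega
    · refine ⟨Or.inr (Or.inr h), ?_⟩
      have hc : c = 4 := by simp only [c, h]; decide
      rw [hc, h] at hlow
      by_contra hm
      push Not at hm
      have : m ^ 7 = m ^ 3 * m ^ 4 := by ring
      have : 94 ^ 3 * m ^ 4 ≤ m ^ 3 * m ^ 4 := Nat.mul_le_mul_right _ (Nat.pow_le_pow_left hm 3)
      omega
  have hcase : k < 32 ∧ (k = 3 ∨ k = 5 ∨ k = 7 ∨ (m < 64 ∧ m < k * k)) := by
    rcases min_choice k (Nat.sqrt m) with h | h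
    · rw [← hsdef] at h; omega
    · rw [← hsdef] at h
      have hlt : m < (s + 1) * (s + 1) := h ▸ Nat.lt_succ_sqrt m
      rcases Nat.eq_or_lt_of_le hsk with e | e
      · omega
      · have : (s + 1) * (s + 1) ≤ k * k := Nat.mul_le_mul e e
        have h8 : (s + 1) * (s + 1) ≤ 8 * 8 := Nat.mul_le_mul (by omega) (by omega)
        omega
  obtain ⟨p, hp, hbig, hlt⟩ := small_table ⟨m, hm94.2⟩ ⟨k, hcase.1⟩ hkm hcase.2
  have hpp : p.Prime := by
    simp only [List.mem_cons, List.not_mem_nil, or_false] at hp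
    rcases hp with rfl | rfl | rfl | rfl | rfl | rfl | rfl | rfl | rfl | rfl | rfl | rfl | rfl | rfl |
      rfl | rfl | rfl | rfl | rfl | rfl | rfl | rfl | rfl | rfl <;> norm_num
  simp only at hbig hlt
  have h := hno p hpp (dvd_choose_of_mod_lt hpp hlt)
  omega

/-- The largest prime divisor `r` of `m.choose k` makes the remainder drop. -/
theorem mod_lt_of_max_prime {m k r : ℕ} (hk : 1 ≤ k) (hkm : 2 * k ≤ m) (hr : r.Prime)
    (hrd : r ∣ m.choose k) (hmax : ∀ s : ℕ, s.Prime → s ∣ m.choose k → s ≤ r) :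
    m % r < k % r ∧ (r = 2 → k = 1 ∨ m < 4) := by
  obtain ⟨p, hp, hpd, hbig⟩ := exists_prime_dvd_choose hk hkm
  have hle := hmax p hp hpd
  have hpp : p * p ≤ r * r := Nat.mul_le_mul hle hle
  refine ⟨mod_lt_of_dvd_choose hr hrd (by omega) (by omega), fun h2 => ?_⟩
  subst h2
  omega

end Cfsg.Agent.H52.Derange
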